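import Cfsg.Agent.Spor.Fi24A2.D0

set_option autoImplicit false
set_option maxRecDepth 100000000
set_option Elab.async false

namespace Cfsg.Agent.Spor.Fi24A2

theorem ok0 : Net.okb 1 n0 = true := by decide +kernel

theorem ok1 : Net.okb 1 n1 = true := by decide +kernel

theorem ok2 : Net.okb 1 n2 = true := by decide +kernel

theorem ok3 : Net.okb 1 n3 = true := by decide +kernel

theorem ok4 : Net.okb 1 n4 = true := by decide +kernel

theorem ok5 : Net.okb 1 n5 = true := by decide +kernel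

theorem ok6 : Net.okb 1 n6 = true := by decide +kernel

theorem ok7 : Net.okb 1 n7 = true := by decide +kernel

theorem ok8 : Net.okb 1 n8 = true := by decide +kernel

theorem ok9 : Net.okb 1 n9 = true := by decide +kernel

theorem ok10 : Net.okb 1 n10 = true := by decide +kernel

theorem ok11 : Net.okb 1 n11 = true := by decide +kernel

theorem rel0 : T.rel 1 [1, 1] 0 1 = true := by decide +kernel

theorem rel1 : T.rel 1 [2, 2] 0 1 = true := by decide +kernel

theorem rel2 : T.rel 1 [3, 3] 0 1 = true := by decide +kernel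

theorem rel3 : T.rel 1 [4, 4] 0 1 = true := by decide +kernel

theorem rel4 : T.rel 1 [5, 5] 0 1 = true := by decide +kernel

theorem rel5 : T.rel 1 [6, 6] 0 1 = true := by decide +kernel

theorem rel6 : T.rel 1 [7, 7] 0 1 = true := by decide +kernel

theorem rel7 : T.rel 1 [8, 8] 0 1 = true := by decide +kernel

theorem rel8 : T.rel 1 [9, 9] 0 1 = true := by decide +kernel

theorem rel9 : T.rel 1 [10, 10] 0 1 = true := by decide +kernel

theorem rel10 : T.rel 1 [11, 11] 0 1 = true := by decide +kernel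

theorem rel11 : T.rel 1 [12, 12] 0 1 = true := by decide +kernel

theorem rel12 : T.rel 1 [2, 1, 2, 1, 2, 1] 0 1 = true := by decide +kernel

theorem rel13 : T.rel 1 [3, 1, 3, 1] 0 1 = true := by decide +kernel

theorem rel14 : T.rel 1 [4, 1, 4, 1] 0 1 = true := by decide +kernel

theorem rel15 : T.rel 1 [5, 1, 5, 1] 0 1 = true := by decide +kernel

theorem rel16 : T.rel 1 [6, 1, 6, 1] 0 1 = true := by decide +kernel

theorem rel17 : T.rel 1 [7, 1, 7, 1] 0 1 = true := by decide +kernel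

theorem rel18 : T.rel 1 [8, 1, 8, 1] 0 1 = true := by decide +kernel

theorem rel19 : T.rel 1 [9, 1, 9, 1] 0 1 = true := by decide +kernel

theorem rel20 : T.rel 1 [10, 1, 10, 1] 0 1 = true := by decide +kernel

theorem rel21 : T.rel 1 [11, 1, 11, 1] 0 1 = true := by decide +kernel

theorem rel22 : T.rel 1 [12, 1, 12, 1, 12, 1] 0 1 = true := by decide +kernel

theorem rel23 : T.rel 1 [3, 2, 3, 2, 3, 2] 0 1 = true := by decide +kernel

theorem rel24 : T.rel 1 [4, 2, 4, 2] 0 1 = true := by decide +kernel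

theorem rel25 : T.rel 1 [5, 2, 5, 2] 0 1 = true := by decide +kernel

theorem rel26 : T.rel 1 [6, 2, 6, 2] 0 1 = true := by decide +kernel

theorem rel27 : T.rel 1 [7, 2, 7, 2] 0 1 = true := by decide +kernel

theorem rel28 : T.rel 1 [8, 2, 8, 2] 0 1 = true := by decide +kernel

theorem rel29 : T.rel 1 [9, 2, 9, 2] 0 1 = true := by decide +kernel

theorem rel30 : T.rel 1 [10, 2, 10, 2] 0 1 = true := by decide +kernel

theorem rel31 : T.rel 1 [11, 2, 11, 2] 0 1 = true := by decide +kernel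

theorem rel32 : T.rel 1 [12, 2, 12, 2] 0 1 = true := by decide +kernel

theorem rel33 : T.rel 1 [4, 3, 4, 3, 4, 3] 0 1 = true := by decide +kernel

theorem rel34 : T.rel 1 [5, 3, 5, 3] 0 1 = true := by decide +kernel

theorem rel35 : T.rel 1 [6, 3, 6, 3] 0 1 = true := by decide +kernel

theorem rel36 : T.rel 1 [7, 3, 7, 3] 0 1 = true := by decide +kernel

theorem rel37 : T.rel 1 [8, 3, 8, 3] 0 1 = true := by decide +kernel

theorem rel38 : T.rel 1 [9, 3, 9, 3] 0 1 = true := by decide +kernel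

theorem rel39 : T.rel 1 [10, 3, 10, 3] 0 1 = true := by decide +kernel

theorem rel40 : T.rel 1 [11, 3, 11, 3] 0 1 = true := by decide +kernel

theorem rel41 : T.rel 1 [12, 3, 12, 3] 0 1 = true := by decide +kernel

theorem rel42 : T.rel 1 [5, 4, 5, 4, 5, 4] 0 1 = true := by decide +kernel

theorem rel43 : T.rel 1 [6, 4, 6, 4] 0 1 = true := by decide +kernel

theorem rel44 : T.rel 1 [7, 4, 7, 4] 0 1 = true := by decide +kernel

theorem rel45 : T.rel 1 [8, 4, 8, 4, 8, 4] 0 1 = true := by decide +kernel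

theorem rel46 : T.rel 1 [9, 4, 9, 4] 0 1 = true := by decide +kernel

theorem rel47 : T.rel 1 [10, 4, 10, 4] 0 1 = true := by decide +kernel

theorem rel48 : T.rel 1 [11, 4, 11, 4] 0 1 = true := by decide +kernel

theorem rel49 : T.rel 1 [12, 4, 12, 4] 0 1 = true := by decide +kernel

theorem rel50 : T.rel 1 [6, 5, 6, 5, 6, 5] 0 1 = true := by decide +kernel

theorem rel51 : T.rel 1 [7, 5, 7, 5] 0 1 = true := by decide +kernel

theorem rel52 : T.rel 1 [8, 5, 8, 5] 0 1 = true := by decide +kernel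

theorem rel53 : T.rel 1 [9, 5, 9, 5] 0 1 = true := by decide +kernel

theorem rel54 : T.rel 1 [10, 5, 10, 5] 0 1 = true := by decide +kernel

theorem rel55 : T.rel 1 [11, 5, 11, 5] 0 1 = true := by decide +kernel

theorem rel56 : T.rel 1 [12, 5, 12, 5] 0 1 = true := by decide +kernel

theorem rel57 : T.rel 1 [7, 6, 7, 6, 7, 6] 0 1 = true := by decide +kernel

theorem rel58 : T.rel 1 [8, 6, 8, 6] 0 1 = true := by decide +kernel

theorem rel59 : T.rel 1 [9, 6, 9, 6] 0 1 = true := by decide +kernel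

theorem rel60 : T.rel 1 [10, 6, 10, 6] 0 1 = true := by decide +kernel

theorem rel61 : T.rel 1 [11, 6, 11, 6] 0 1 = true := by decide +kernel

theorem rel62 : T.rel 1 [12, 6, 12, 6] 0 1 = true := by decide +kernel

theorem rel63 : T.rel 1 [8, 7, 8, 7] 0 1 = true := by decide +kernel

theorem rel64 : T.rel 1 [9, 7, 9, 7] 0 1 = true := by decide +kernel

theorem rel65 : T.rel 1 [10, 7, 10, 7, 10, 7] 0 1 = true := by decide +kernel

theorem rel66 : T.rel 1 [11, 7, 11, 7] 0 1 = true := by decide +kernel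

theorem rel67 : T.rel 1 [12, 7, 12, 7] 0 1 = true := by decide +kernel

theorem rel68 : T.rel 1 [9, 8, 9, 8, 9, 8] 0 1 = true := by decide +kernel

theorem rel69 : T.rel 1 [10, 8, 10, 8] 0 1 = true := by decide +kernel

theorem rel70 : T.rel 1 [11, 8, 11, 8] 0 1 = true := by decide +kernel

theorem rel71 : T.rel 1 [12, 8, 12, 8] 0 1 = true := by decide +kernel

theorem rel72 : T.rel 1 [10, 9, 10, 9] 0 1 = true := by decide +kernel

theorem rel73 : T.rel 1 [11, 9, 11, 9] 0 1 = true := by decide +kernel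

theorem rel74 : T.rel 1 [12, 9, 12, 9] 0 1 = true := by decide +kernel

theorem rel75 : T.rel 1 [11, 10, 11, 10] 0 1 = true := by decide +kernel

theorem rel76 : T.rel 1 [12, 10, 12, 10] 0 1 = true := by decide +kernel

theorem rel77 : T.rel 1 [12, 11, 12, 11, 12, 11] 0 1 = true := by decide +kernel

theorem rel78 : T.rel 1 [1, 2, 3, 4, 5, 6, 8, 1, 2, 3, 4, 5, 6, 8, 1, 2, 3, 4, 5, 6, 8, 1, 2, 3, 4, 5, 6, 8, 1, 2, 3, 4, 5, 6, 8, 1, 2, 3, 4, 5, 6, 8, 1, 2, 3, 4, 5, 6, 8, 1, 2, 3, 4, 5, 6, 8, 1, 2, 3, 4, 5, 6, 8, 11] 0 1 = true := by decide +kernel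

theorem rel79 : T.rel 1 [9, 8, 4, 10, 7, 6, 5, 4, 11, 12, 1, 2, 3, 4, 9, 8, 4, 10, 7, 6, 5, 4, 11, 12, 1, 2, 3, 4, 9, 8, 4, 10, 7, 6, 5, 4, 11, 12, 1, 2, 3, 4, 9, 8, 4, 10, 7, 6, 5, 4, 11, 12, 1, 2, 3, 4, 9, 8, 4, 10, 7, 6, 5, 4, 11, 12, 1, 2, 3, 4, 9, 8, 4, 10, 7, 6, 5, 4, 11, 12, 1, 2, 3, 4, 9, 8, 4, 10, 7, 6, 5, 4, 11, 12, 1, 2, 3, 4, 9, 8, 4, 10, 7, 6, 5, 4, 11, 12, 1, 2, 3, 4, 9, 8, 4, 10, 7, 6, 5, 4, 11, 12, 1, 2, 3, 4, 9, 8, 4, 10, 7, 6, 5, 4, 11, 12, 1, 2, 3, 4, 9, 8, 4, 10, 7, 6, 5, 4, 11, 12, 1, 2, 3, 4, 9, 8, 4, 10, 7, 6, 5, 4, 11, 12, 1, 2, 3, 4, 9, 8, 4, 10, 7, 6, 5, 4, 11, 12, 1, 2, 3, 4, 9, 8, 4, 10, 7, 6, 5, 4, 11, 12, 1, 2, 3, 4, 9, 8, 4, 10, 7, 6, 5, 4, 11, 12, 1, 2, 3, 4, 9, 8, 4, 10, 7, 6, 5, 4, 11, 12, 1, 2, 3, 4, 9, 8, 4, 10, 7, 6, 5, 4, 11, 12, 1, 2, 3, 4] 0 1 = true := by decide +kernel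

theorem rel80 : T.rel 1 [2, 1, 2, 1] 0 1 = true := by decide +kernel

theorem rel81 : T.rel 1 [12, 1, 12, 1] 0 1 = true := by decide +kernel

theorem rel82 : T.rel 1 [3, 2, 3, 2] 0 1 = true := by decide +kernel

theorem rel83 : T.rel 1 [4, 3, 4, 3] 0 1 = true := by decide +kernel

theorem rel84 : T.rel 1 [5, 4, 5, 4] 0 1 = true := by decide +kernel

theorem rel85 : T.rel 1 [8, 4, 8, 4] 0 1 = true := by decide +kernel

theorem rel86 : T.rel 1 [6, 5, 6, 5] 0 1 = true := by decide +kernel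

theorem rel87 : T.rel 1 [7, 6, 7, 6] 0 1 = true := by decide +kernel

theorem rel88 : T.rel 1 [10, 7, 10, 7] 0 1 = true := by decide +kernel

theorem rel89 : T.rel 1 [9, 8, 9, 8] 0 1 = true := by decide +kernel

theorem rel90 : T.rel 1 [12, 11, 12, 11] 0 1 = true := by decide +kernel

theorem hcov : T.treeCov (ones 2) L 1 = true := by decide +kernel

theorem hg : lall (fun z => band (memL L z) (band (sub (ones 2) (T.let z).cl) (T.closed (ones 2) z))) gs = true := by decide +kernel

theorem hivk : ivOk (2 * 12) EX IV = true := by decide +kernel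

theorem hrt : RT.ok (2 * 12) EX RL = true := by decide +kernel

theorem hdefs : defs F 21 = true := by decide +kernel

noncomputable def st0_l : List Nat := [nat_lit 0x40000100000403, nat_lit 0x28000ac0000000003000028000ac06, nat_lit 0x18000b402, nat_lit 0x80000300000403, nat_lit 0x6000178000c003, nat_lit 0x188000b80000e00033000188000b806, nat_lit 0x90001a80000403, nat_lit 0x38000dc02, nat_lit 0xc0000500000403, nat_lit 0xa0001c8000e803, nat_lit 0x1d8000e0000160003d0001d8000e006, nat_lit 0xd0001f80000403, nat_lit 0x580010402, nat_lit 0x100000700000403, nat_lit 0xe0002180011003, nat_lit 0x228001080001e000470002280010806, nat_lit 0x110002480000403, nat_lit 0x780012c02, nat_lit 0x140000900000403, nat_lit 0x120002680013803, nat_lit 0x2780013000026000510002780013006, nat_lit 0x150002980000403, nat_lit 0x980015402, nat_lit 0x180000b00000403, nat_lit 0x160002b80016003, nat_lit 0x2c8001580002e0005b0002c80015806, nat_lit 0x190002e80000403, nat_lit 0xb80017c02, nat_lit 0x1c0000d00000403,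 nat_lit 0x1a0002180018803, nat_lit 0x3180010800036000650003180010806, nat_lit 0x1d0003380000403, nat_lit 0xd8001a402, nat_lit 0x200000f00000403, nat_lit 0x1e000358001b003, nat_lit 0x368001a80003e0006f000368001a806, nat_lit 0x210003880000403, nat_lit 0xf8001cc02, nat_lit 0x240001100000403, nat_lit 0x22000308001d803, nat_lit 0x3b80018000046000790003b80018006, nat_lit 0x250003d80000403, nat_lit 0x118001f402, nat_lit 0x280001300000403, nat_lit 0x1480020400000000270001480020406, nat_lit 0x1380020c02]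
theorem st0 : band (steps F IV RT base st0_l 21) (Nat.beq (Nat.add 21 (llen st0_l)) 67) = true := by decide +kernel

theorem rot1_1 : T.rot 1 [1] (sel (ones 2) ip1 1) = true := by decide +kernel

theorem rot1_1r : band (Rule.ok (2 * 12) EX RL ⟨1 :: [1], [], 134, false⟩) (lall (memL L) [1]) = true := by decide +kernel

theorem cov1 : T.cover 1 [(sel (ones 2) ip1 1)] = true := by decide +kernel

theorem tl1 : T.treeLt 1 1 = true := by decide +kernel

theorem rot2_1 : T.rot 2 [2] (sel (ones 2) ip2 1) = true := by decide +kernel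

theorem rot2_1r : band (Rule.ok (2 * 12) EX RL ⟨2 :: [2], [], 134, false⟩) (lall (memL L) [2]) = true := by decide +kernel

theorem ep0a : T.treePath [] (Nat.shiftLeft 1 0) 1 = true := by decide +kernel

theorem ep0b : T.treePath [1] (Nat.shiftLeft 1 1) 1 = true := by decide +kernel

theorem ep0c : band (lall (fun z => Nat.ble z 255) ([] ++ 2 :: [1])) (concl F IV 67 0x8000b802 (encA ([] ++ 2 :: [1]) 0)) = true := by decide +kernel

theorem ep0d : band (Rule.ok (2 * 12) EX [] ⟨lapp [1] [1], [], 0, false⟩) (band (lall (memL L) []) (lall (memL L) [1])) = true := by decide +kernel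

theorem cov2 : T.cover 2 [(sel (ones 2) ip2 1), (Nat.shiftLeft 1 0)] = true := by decide +kernel

theorem tl2 : Nat.beq (T.let 2).tt 0 = true := by decide +kernel

theorem rot3_1 : T.rot 3 [3] (sel (ones 2) ip3 1) = true := by decide +kernel

theorem rot3_1r : band (Rule.ok (2 * 12) EX RL ⟨3 :: [3], [], 134, false⟩) (lall (memL L) [3]) = true := by decide +kernel

theorem ep1a : T.treePath [] (Nat.shiftLeft 1 0) 1 = true := by decide +kernel

theorem ep1b : T.treePath [1] (Nat.shiftLeft 1 1) 1 = true := by decide +kernel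

theorem ep1c : band (lall (fun z => Nat.ble z 255) ([] ++ 3 :: [1])) (concl F IV 67 0x8000e002 (encA ([] ++ 3 :: [1]) 0)) = true := by decide +kernel

theorem ep1d : band (Rule.ok (2 * 12) EX [] ⟨lapp [1] [1], [], 0, false⟩) (band (lall (memL L) []) (lall (memL L) [1])) = true := by decide +kernel

theorem cov3 : T.cover 3 [(sel (ones 2) ip3 1), (Nat.shiftLeft 1 0)] = true := by decide +kernel

theorem tl3 : Nat.beq (T.let 3).tt 0 = true := by decide +kernel

theorem rot4_1 : T.rot 4 [4] (sel (ones 2) ip4 1) = true := by decide +kernel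

theorem rot4_1r : band (Rule.ok (2 * 12) EX RL ⟨4 :: [4], [], 134, false⟩) (lall (memL L) [4]) = true := by decide +kernel

theorem ep2a : T.treePath [] (Nat.shiftLeft 1 0) 1 = true := by decide +kernel

theorem ep2b : T.treePath [1] (Nat.shiftLeft 1 1) 1 = true := by decide +kernel

theorem ep2c : band (lall (fun z => Nat.ble z 255) ([] ++ 4 :: [1])) (concl F IV 67 0x80010802 (encA ([] ++ 4 :: [1]) 0)) = true := by decide +kernel

theorem ep2d : band (Rule.ok (2 * 12) EX [] ⟨lapp [1] [1], [], 0, false⟩) (band (lall (memL L) []) (lall (memL L) [1])) = true := by decide +kernel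

theorem cov4 : T.cover 4 [(sel (ones 2) ip4 1), (Nat.shiftLeft 1 0)] = true := by decide +kernel

theorem tl4 : Nat.beq (T.let 4).tt 0 = true := by decide +kernel

theorem rot5_1 : T.rot 5 [5] (sel (ones 2) ip5 1) = true := by decide +kernel

theorem rot5_1r : band (Rule.ok (2 * 12) EX RL ⟨5 :: [5], [], 134, false⟩) (lall (memL L) [5]) = true := by decide +kernel

theorem ep3a : T.treePath [] (Nat.shiftLeft 1 0) 1 = true := by decide +kernel

theorem ep3b : T.treePath [1] (Nat.shiftLeft 1 1) 1 = true := by decide +kernel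

theorem ep3c : band (lall (fun z => Nat.ble z 255) ([] ++ 5 :: [1])) (concl F IV 67 0x80013002 (encA ([] ++ 5 :: [1]) 0)) = true := by decide +kernel

theorem ep3d : band (Rule.ok (2 * 12) EX [] ⟨lapp [1] [1], [], 0, false⟩) (band (lall (memL L) []) (lall (memL L) [1])) = true := by decide +kernel

theorem cov5 : T.cover 5 [(sel (ones 2) ip5 1), (Nat.shiftLeft 1 0)] = true := by decide +kernel

theorem tl5 : Nat.beq (T.let 5).tt 0 = true := by decide +kernel

theorem rot6_1 : T.rot 6 [6] (sel (ones 2) ip6 1) = true := by decide +kernel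

theorem rot6_1r : band (Rule.ok (2 * 12) EX RL ⟨6 :: [6], [], 134, false⟩) (lall (memL L) [6]) = true := by decide +kernel

theorem ep4a : T.treePath [] (Nat.shiftLeft 1 0) 1 = true := by decide +kernel

theorem ep4b : T.treePath [1] (Nat.shiftLeft 1 1) 1 = true := by decide +kernel

theorem ep4c : band (lall (fun z => Nat.ble z 255) ([] ++ 6 :: [1])) (concl F IV 67 0x80015802 (encA ([] ++ 6 :: [1]) 0)) = true := by decide +kernel

theorem ep4d : band (Rule.ok (2 * 12) EX [] ⟨lapp [1] [1], [], 0, false⟩) (band (lall (memL L) []) (lall (memL L) [1])) = true := by decide +kernel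

theorem cov6 : T.cover 6 [(sel (ones 2) ip6 1), (Nat.shiftLeft 1 0)] = true := by decide +kernel

theorem tl6 : Nat.beq (T.let 6).tt 0 = true := by decide +kernel

theorem rot7_1 : T.rot 7 [7] (sel (ones 2) ip7 1) = true := by decide +kernel

theorem rot7_1r : band (Rule.ok (2 * 12) EX RL ⟨7 :: [7], [], 134, false⟩) (lall (memL L) [7]) = true := by decide +kernel

theorem ep5a : T.treePath [] (Nat.shiftLeft 1 0) 1 = true := by decide +kernel

theorem ep5b : T.treePath [1] (Nat.shiftLeft 1 1) 1 = true := by decide +kernel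

theorem ep5c : band (lall (fun z => Nat.ble z 255) ([] ++ 7 :: [1])) (concl F IV 67 0x80018002 (encA ([] ++ 7 :: [1]) 0)) = true := by decide +kernel

theorem ep5d : band (Rule.ok (2 * 12) EX [] ⟨lapp [1] [1], [], 0, false⟩) (band (lall (memL L) []) (lall (memL L) [1])) = true := by decide +kernel

theorem cov7 : T.cover 7 [(sel (ones 2) ip7 1), (Nat.shiftLeft 1 0)] = true := by decide +kernel

theorem tl7 : Nat.beq (T.let 7).tt 0 = true := by decide +kernel

theorem rot8_1 : T.rot 8 [8] (sel (ones 2) ip8 1) = true := by decide +kernel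

theorem rot8_1r : band (Rule.ok (2 * 12) EX RL ⟨8 :: [8], [], 134, false⟩) (lall (memL L) [8]) = true := by decide +kernel

theorem ep6a : T.treePath [] (Nat.shiftLeft 1 0) 1 = true := by decide +kernel

theorem ep6b : T.treePath [1] (Nat.shiftLeft 1 1) 1 = true := by decide +kernel

theorem ep6c : band (lall (fun z => Nat.ble z 255) ([] ++ 8 :: [1])) (concl F IV 67 0x8001a802 (encA ([] ++ 8 :: [1]) 0)) = true := by decide +kernel

theorem ep6d : band (Rule.ok (2 * 12) EX [] ⟨lapp [1] [1], [], 0, false⟩) (band (lall (memL L) []) (lall (memL L) [1])) = true := by decide +kernel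

theorem cov8 : T.cover 8 [(sel (ones 2) ip8 1), (Nat.shiftLeft 1 0)] = true := by decide +kernel

theorem tl8 : Nat.beq (T.let 8).tt 0 = true := by decide +kernel

theorem rot9_1 : T.rot 9 [9] (sel (ones 2) ip9 1) = true := by decide +kernel

theorem rot9_1r : band (Rule.ok (2 * 12) EX RL ⟨9 :: [9], [], 134, false⟩) (lall (memL L) [9]) = true := by decide +kernel

theorem ep7a : T.treePath [] (Nat.shiftLeft 1 0) 1 = true := by decide +kernel

theorem ep7b : T.treePath [1] (Nat.shiftLeft 1 1) 1 = true := by decide +kernel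

theorem ep7c : band (lall (fun z => Nat.ble z 255) ([] ++ 9 :: [1])) (concl F IV 67 0x8001d002 (encA ([] ++ 9 :: [1]) 0)) = true := by decide +kernel

theorem ep7d : band (Rule.ok (2 * 12) EX [] ⟨lapp [1] [1], [], 0, false⟩) (band (lall (memL L) []) (lall (memL L) [1])) = true := by decide +kernel

theorem cov9 : T.cover 9 [(sel (ones 2) ip9 1), (Nat.shiftLeft 1 0)] = true := by decide +kernel

theorem tl9 : Nat.beq (T.let 9).tt 0 = true := by decide +kernel

theorem rot10_1 : T.rot 10 [10] (sel (ones 2) ip10 1) = true := by decide +kernel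

theorem rot10_1r : band (Rule.ok (2 * 12) EX RL ⟨10 :: [10], [], 134, false⟩) (lall (memL L) [10]) = true := by decide +kernel

theorem ep8a : T.treePath [] (Nat.shiftLeft 1 0) 1 = true := by decide +kernel

theorem ep8b : T.treePath [1] (Nat.shiftLeft 1 1) 1 = true := by decide +kernel

theorem ep8c : band (lall (fun z => Nat.ble z 255) ([] ++ 10 :: [1])) (concl F IV 67 0x8001f802 (encA ([] ++ 10 :: [1]) 0)) = true := by decide +kernel

theorem ep8d : band (Rule.ok (2 * 12) EX [] ⟨lapp [1] [1], [], 0, false⟩) (band (lall (memL L) []) (lall (memL L) [1])) = true := by decide +kernel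

theorem cov10 : T.cover 10 [(sel (ones 2) ip10 1), (Nat.shiftLeft 1 0)] = true := by decide +kernel

theorem tl10 : Nat.beq (T.let 10).tt 0 = true := by decide +kernel

theorem rot11_1 : T.rot 11 [1, 2, 3, 4, 5, 6, 8, 1, 2, 3, 4, 5, 6, 8, 1, 2, 3, 4, 5, 6, 8, 1, 2, 3, 4, 5, 6, 8, 1, 2, 3, 4, 5, 6, 8, 1, 2, 3, 4, 5, 6, 8, 1, 2, 3, 4, 5, 6, 8, 1, 2, 3, 4, 5, 6, 8, 1, 2, 3, 4, 5, 6, 8] (sel (ones 2) ip11 1) = true := by decide +kernel

theorem rot11_1r : band (Rule.ok (2 * 12) EX RL ⟨11 :: [1, 2, 3, 4, 5, 6, 8, 1, 2, 3, 4, 5, 6, 8, 1, 2, 3, 4, 5, 6, 8, 1, 2, 3, 4, 5, 6, 8, 1, 2, 3, 4, 5, 6, 8, 1, 2, 3, 4, 5, 6, 8, 1, 2, 3, 4, 5, 6, 8, 1, 2, 3, 4, 5, 6, 8, 1, 2, 3, 4, 5, 6, 8], [20], 66, true⟩) (lall (memL L) [1, 2, 3, 4, 5, 6, 8, 1, 2, 3, 4, 5, 6, 8, 1, 2, 3, 4, 5, 6, 8, 1, 2, 3, 4, 5, 6, 8, 1, 2, 3, 4, 5, 6, 8, 1, 2, 3, 4, 5, 6, 8, 1, 2, 3, 4, 5, 6, 8, 1, 2, 3, 4, 5, 6, 8, 1, 2, 3, 4, 5, 6, 8]) = true := by decide +kernel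

theorem cov11 : T.cover 11 [(sel (ones 2) ip11 1)] = true := by decide +kernel

theorem tl11 : Nat.beq (T.let 11).tt 0 = true := by decide +kernel

theorem rot12_1 : T.rot 12 [12] (sel (ones 2) ip12 1) = true := by decide +kernel

theorem rot12_1r : band (Rule.ok (2 * 12) EX RL ⟨12 :: [12], [], 134, false⟩) (lall (memL L) [12]) = true := by decide +kernel

theorem ep9a : T.treePath [] (Nat.shiftLeft 1 0) 1 = true := by decide +kernel

theorem ep9b : T.treePath [1] (Nat.shiftLeft 1 1) 1 = true := by decide +kernel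

theorem ep9c : band (lall (fun z => Nat.ble z 255) ([] ++ 12 :: [1])) (concl F IV 67 0x80021002 (encA ([] ++ 12 :: [1]) 0)) = true := by decide +kernel

theorem ep9d : band (Rule.ok (2 * 12) EX [] ⟨lapp [1] [1], [], 0, false⟩) (band (lall (memL L) []) (lall (memL L) [1])) = true := by decide +kernel

theorem cov12 : T.cover 12 [(sel (ones 2) ip12 1), (Nat.shiftLeft 1 0)] = true := by decide +kernel

theorem tl12 : Nat.beq (T.let 12).tt 0 = true := by decide +kernel

end Cfsg.Agent.Spor.Fi24A2
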