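import Cfsg.Agent.Spor.Chk

set_option autoImplicit false
set_option maxRecDepth 100000000
set_option Elab.async false
noncomputable section

namespace Cfsg.Agent.Spor.Fi24A2

def m0_0 : Nat := nat_lit 0x1
def n0 : Net := Net.cons 1 m0_0 (Net.nil)

def m1_0 : Nat := nat_lit 0x1
def n1 : Net := Net.cons 1 m1_0 (Net.nil)

def m2_0 : Nat := nat_lit 0x1
def n2 : Net := Net.cons 1 m2_0 (Net.nil)

def m3_0 : Nat := nat_lit 0x1
def n3 : Net := Net.cons 1 m3_0 (Net.nil)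

def m4_0 : Nat := nat_lit 0x1
def n4 : Net := Net.cons 1 m4_0 (Net.nil)

def m5_0 : Nat := nat_lit 0x1
def n5 : Net := Net.cons 1 m5_0 (Net.nil)

def m6_0 : Nat := nat_lit 0x1
def n6 : Net := Net.cons 1 m6_0 (Net.nil)

def m7_0 : Nat := nat_lit 0x1
def n7 : Net := Net.cons 1 m7_0 (Net.nil)

def m8_0 : Nat := nat_lit 0x1
def n8 : Net := Net.cons 1 m8_0 (Net.nil)

def m9_0 : Nat := nat_lit 0x1
def n9 : Net := Net.cons 1 m9_0 (Net.nil)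

def m10_0 : Nat := nat_lit 0x1
def n10 : Net := Net.cons 1 m10_0 (Net.nil)

def m11_0 : Nat := nat_lit 0x1
def n11 : Net := Net.cons 1 m11_0 (Net.nil)

def ip1 : List Nat := [0x2]
def l1 : Let := ⟨0, false, 0x3, 0x2, [0x2, 0x0]⟩

def ip2 : List Nat := [0x2]
def l2 : Let := ⟨1, false, 0x3, 0x0, [0x2, 0x0]⟩

def ip3 : List Nat := [0x2]
def l3 : Let := ⟨2, false, 0x3, 0x0, [0x2, 0x0]⟩

def ip4 : List Nat := [0x2]
def l4 : Let := ⟨3, false, 0x3, 0x0, [0x2, 0x0]⟩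

def ip5 : List Nat := [0x2]
def l5 : Let := ⟨4, false, 0x3, 0x0, [0x2, 0x0]⟩

def ip6 : List Nat := [0x2]
def l6 : Let := ⟨5, false, 0x3, 0x0, [0x2, 0x0]⟩

def ip7 : List Nat := [0x2]
def l7 : Let := ⟨6, false, 0x3, 0x0, [0x2, 0x0]⟩

def ip8 : List Nat := [0x2]
def l8 : Let := ⟨7, false, 0x3, 0x0, [0x2, 0x0]⟩

def ip9 : List Nat := [0x2]
def l9 : Let := ⟨8, false, 0x3, 0x0, [0x2, 0x0]⟩

def ip10 : List Nat := [0x2]
def l10 : Let := ⟨9, false, 0x3, 0x0, [0x2, 0x0]⟩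

def ip11 : List Nat := [0x3]
def l11 : Let := ⟨10, false, 0x3, 0x0, [0x0, 0x3]⟩

def ip12 : List Nat := [0x2]
def l12 : Let := ⟨11, false, 0x3, 0x0, [0x2, 0x0]⟩

def F : Nat := nat_lit 0x10c00000000010000014000010c00015000010a00000000010000012000000000013000130700012000010a0001300001090000000001000001000000000001100011080001000001090001100001080000000001000000e00000000000f0000f040000e00001080000f00001070000000001000000c00000000000d0000d060000c00001070000d00001060000000001000000a00000000000b0000b050000a00001060000b000010500000000010000008000000000009000090400008000010500009000010400000000010000006000000000007000070300006000010400007000010300000000010000004000000000005000050200004000010300005000010200000000010000002000010200003000150100014000140c00000000130100012000120a000000001101000100001009000000000f010000e0000e08000000000d010000c0000c07000000000b010000a0000a0600000000090100008000080500000000070100006000060400000000050100004000040300000000030100002000020200000000010100000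

def rt0_9 : RTree := RTree.node 0x505 ⟨[5, 5], [], 134, false⟩ (RTree.node 0x303 ⟨[3, 3], [], 134, false⟩ (RTree.node 0x202 ⟨[2, 2], [], 134, false⟩ (RTree.node 0x101 ⟨[1, 1], [], 134, false⟩ (RTree.leaf) (RTree.leaf)) (RTree.leaf)) (RTree.node 0x404 ⟨[4, 4], [], 134, false⟩ (RTree.leaf) (RTree.leaf))) (RTree.node 0x808 ⟨[8, 8], [], 134, false⟩ (RTree.node 0x707 ⟨[7, 7], [], 134, false⟩ (RTree.node 0x606 ⟨[6, 6], [], 134, false⟩ (RTree.leaf) (RTree.leaf)) (RTree.leaf)) (RTree.node 0x909 ⟨[9, 9], [], 134, false⟩ (RTree.leaf) (RTree.leaf)))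
def rt10_19 : RTree := RTree.node 0x3040304 ⟨[3, 4, 3, 4], [], 89, false⟩ (RTree.node 0x2030203 ⟨[2, 3, 2, 3], [], 79, false⟩ (RTree.node 0x2010201 ⟨[2, 1, 2, 1], [], 68, true⟩ (RTree.node 0xc0c ⟨[12, 12], [], 134, false⟩ (RTree.leaf) (RTree.leaf)) (RTree.leaf)) (RTree.node 0x3010301 ⟨[3, 1, 3, 1], [], 1, true⟩ (RTree.leaf) (RTree.leaf))) (RTree.node 0x4080408 ⟨[4, 8, 4, 8], [], 101, false⟩ (RTree.node 0x4050405 ⟨[4, 5, 4, 5], [], 98, false⟩ (RTree.node 0x4010401 ⟨[4, 1, 4, 1], [], 2, true⟩ (RTree.leaf) (RTree.leaf)) (RTree.leaf)) (RTree.node 0x5010501 ⟨[5, 1, 5, 1], [], 3, true⟩ (RTree.leaf) (RTree.leaf)))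
def rt0_19 : RTree := RTree.node 0xa0a ⟨[10, 10], [], 134, false⟩ (rt0_9) (rt10_19)
def rt20_29 : RTree := RTree.node 0x8010801 ⟨[8, 1, 8, 1], [], 6, true⟩ (RTree.node 0x7010701 ⟨[7, 1, 7, 1], [], 5, true⟩ (RTree.node 0x6070607 ⟨[6, 7, 6, 7], [], 113, false⟩ (RTree.node 0x6010601 ⟨[6, 1, 6, 1], [], 4, true⟩ (RTree.leaf) (RTree.leaf)) (RTree.leaf)) (RTree.node 0x70a070a ⟨[7, 10, 7, 10], [], 121, false⟩ (RTree.leaf) (RTree.leaf))) (RTree.node 0xa010a01 ⟨[10, 1, 10, 1], [], 8, true⟩ (RTree.node 0x9010901 ⟨[9, 1, 9, 1], [], 7, true⟩ (RTree.node 0x8090809 ⟨[8, 9, 8, 9], [], 124, false⟩ (RTree.leaf) (RTree.leaf)) (RTree.leaf)) (RTree.node 0xc010c01 ⟨[12, 1, 12, 1], [], 78, true⟩ (RTree.leaf) (RTree.leaf)))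
def rt30_39 : RTree := RTree.node 0x50605060506 ⟨[5, 6, 5, 6, 5, 6], [], 38, false⟩ (RTree.node 0x40504050405 ⟨[4, 5, 4, 5, 4, 5], [], 30, false⟩ (RTree.node 0x30403040304 ⟨[3, 4, 3, 4, 3, 4], [], 21, false⟩ (RTree.node 0x20302030203 ⟨[2, 3, 2, 3, 2, 3], [], 11, false⟩ (RTree.leaf) (RTree.leaf)) (RTree.leaf)) (RTree.node 0x40804080408 ⟨[4, 8, 4, 8, 4, 8], [], 33, false⟩ (RTree.leaf) (RTree.leaf))) (RTree.node 0x80908090809 ⟨[8, 9, 8, 9, 8, 9], [], 56, false⟩ (RTree.node 0x70a070a070a ⟨[7, 10, 7, 10, 7, 10], [], 53, false⟩ (RTree.node 0x60706070607 ⟨[6, 7, 6, 7, 6, 7], [], 45, false⟩ (RTree.leaf) (RTree.leaf)) (RTree.leaf)) (RTree.node 0xc010c010c01 ⟨[12, 1, 12, 1, 12, 1], [], 10, true⟩ (RTree.leaf) (RTree.leaf)))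
def rt20_39 : RTree := RTree.node 0x20102010201 ⟨[2, 1, 2, 1, 2, 1], [], 0, true⟩ (rt20_29) (rt30_39)
def rt0_39 : RTree := RTree.node 0x5060506 ⟨[5, 6, 5, 6], [], 106, false⟩ (rt0_19) (rt20_39)
def RT : RTree := rt0_39

def NT : List Net := [n0, n1, n2, n3, n4, n5, n6, n7, n8, n9, n10, n11]
def LT : List Let := [⟨0, false, 0, 0, []⟩, l1, l2, l3, l4, l5, l6, l7, l8, l9, l10, l11, l12]
def T : Tab := ⟨NT, LT⟩
def EX : List (List Nat) := [[], [0], [2], [4], [6], [8], [10], [12], [14], [16], [18], [20], [22]]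
def RL : List (List Nat) := [[0, 2, 0, 2, 0, 2], [0, 4, 0, 4], [0, 6, 0, 6], [0, 8, 0, 8], [0, 10, 0, 10], [0, 12, 0, 12], [0, 14, 0, 14], [0, 16, 0, 16], [0, 18, 0, 18], [0, 20, 0, 20], [0, 22, 0, 22, 0, 22], [2, 4, 2, 4, 2, 4], [2, 6, 2, 6], [2, 8, 2, 8], [2, 10, 2, 10], [2, 12, 2, 12], [2, 14, 2, 14], [2, 16, 2, 16], [2, 18, 2, 18], [2, 20, 2, 20], [2, 22, 2, 22], [4, 6, 4, 6, 4, 6], [4, 8, 4, 8], [4, 10, 4, 10], [4, 12, 4, 12], [4, 14, 4, 14], [4, 16, 4, 16], [4, 18, 4, 18], [4, 20, 4, 20], [4, 22, 4, 22], [6, 8, 6, 8, 6, 8], [6, 10, 6, 10], [6, 12, 6, 12], [6, 14, 6, 14, 6, 14], [6, 16, 6, 16], [6, 18, 6, 18], [6, 20, 6, 20], [6, 22, 6, 22], [8, 10, 8, 10, 8, 10], [8, 12, 8, 12], [8, 14, 8, 14], [8, 16, 8, 16], [8, 18, 8, 18], [8, 20, 8, 20], [8, 22, 8, 22], [10, 12, 10, 12, 10, 12], [10, 14, 10, 14], [10, 16, 10, 16], [10, 18, 10, 18], [10, 20,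 10, 20], [10, 22, 10, 22], [12, 14, 12, 14], [12, 16, 12, 16], [12, 18, 12, 18, 12, 18], [12, 20, 12, 20], [12, 22, 12, 22], [14, 16, 14, 16, 14, 16], [14, 18, 14, 18], [14, 20, 14, 20], [14, 22, 14, 22], [16, 18, 16, 18], [16, 20, 16, 20], [16, 22, 16, 22], [18, 20, 18, 20], [18, 22, 18, 22], [20, 22, 20, 22, 20, 22], [20, 14, 10, 8, 6, 4, 2, 0, 14, 10, 8, 6, 4, 2, 0, 14, 10, 8, 6, 4, 2, 0, 14, 10, 8, 6, 4, 2, 0, 14, 10, 8, 6, 4, 2, 0, 14, 10, 8, 6, 4, 2, 0, 14, 10, 8, 6, 4, 2, 0, 14, 10, 8, 6, 4, 2, 0, 14, 10, 8, 6, 4, 2, 0], [6, 4, 2, 0, 22, 20, 6, 8, 10, 12, 18, 6, 14, 16, 6, 4, 2, 0, 22, 20, 6, 8, 10, 12, 18, 6, 14, 16, 6, 4, 2, 0, 22, 20, 6, 8, 10, 12, 18, 6, 14, 16, 6, 4, 2, 0, 22, 20, 6, 8, 10, 12, 18, 6, 14, 16, 6, 4, 2, 0, 22, 20, 6, 8, 10, 12, 18, 6, 14, 16, 6, 4, 2, 0, 22, 20, 6, 8, 10, 12, 18, 6, 14, 16, 6, 4, 2, 0, 22, 20, 6, 8, 10, 12,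 18, 6, 14, 16, 6, 4, 2, 0, 22, 20, 6, 8, 10, 12, 18, 6, 14, 16, 6, 4, 2, 0, 22, 20, 6, 8, 10, 12, 18, 6, 14, 16, 6, 4, 2, 0, 22, 20, 6, 8, 10, 12, 18, 6, 14, 16, 6, 4, 2, 0, 22, 20, 6, 8, 10, 12, 18, 6, 14, 16, 6, 4, 2, 0, 22, 20, 6, 8, 10, 12, 18, 6, 14, 16, 6, 4, 2, 0, 22, 20, 6, 8, 10, 12, 18, 6, 14, 16, 6, 4, 2, 0, 22, 20, 6, 8, 10, 12, 18, 6, 14, 16, 6, 4, 2, 0, 22, 20, 6, 8, 10, 12, 18, 6, 14, 16, 6, 4, 2, 0, 22, 20, 6, 8, 10, 12, 18, 6, 14, 16, 6, 4, 2, 0, 22, 20, 6, 8, 10, 12, 18, 6, 14, 16], [0, 2, 0, 2], [0, 4, 0, 4], [0, 6, 0, 6], [0, 8, 0, 8], [0, 10, 0, 10], [0, 12, 0, 12], [0, 14, 0, 14], [0, 16, 0, 16], [0, 18, 0, 18], [0, 20, 0, 20], [0, 22, 0, 22], [2, 4, 2, 4], [2, 6, 2, 6], [2, 8, 2, 8], [2, 10, 2, 10], [2, 12, 2, 12], [2, 14, 2, 14], [2, 16, 2, 16], [2, 18, 2, 18], [2, 20, 2, 20], [2, 22, 2, 22], [4, 6, 4, 6], [4, 8, 4, 8], [4,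 10, 4, 10], [4, 12, 4, 12], [4, 14, 4, 14], [4, 16, 4, 16], [4, 18, 4, 18], [4, 20, 4, 20], [4, 22, 4, 22], [6, 8, 6, 8], [6, 10, 6, 10], [6, 12, 6, 12], [6, 14, 6, 14], [6, 16, 6, 16], [6, 18, 6, 18], [6, 20, 6, 20], [6, 22, 6, 22], [8, 10, 8, 10], [8, 12, 8, 12], [8, 14, 8, 14], [8, 16, 8, 16], [8, 18, 8, 18], [8, 20, 8, 20], [8, 22, 8, 22], [10, 12, 10, 12], [10, 14, 10, 14], [10, 16, 10, 16], [10, 18, 10, 18], [10, 20, 10, 20], [10, 22, 10, 22], [12, 14, 12, 14], [12, 16, 12, 16], [12, 18, 12, 18], [12, 20, 12, 20], [12, 22, 12, 22], [14, 16, 14, 16], [14, 18, 14, 18], [14, 20, 14, 20], [14, 22, 14, 22], [16, 18, 16, 18], [16, 20, 16, 20], [16, 22, 16, 22], [18, 20, 18, 20], [18, 22, 18, 22], [20, 22, 20, 22]]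
def XL : List (List Nat) := []
def BW : List (List Nat) := []
def IV : Nat := 0xc0b0a09080706050403020100
def L : List Nat := [1, 2, 3, 4, 5, 6, 7, 8, 9, 10, 11, 12]
def gs : List Nat := [1, 2, 3, 4, 5, 6, 7, 8, 9, 10, 11, 12]
def base : List Nat := []

end Cfsg.Agent.Spor.Fi24A2
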